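import Mathlib
import Groth.Prelude.Def_W4c3perfectstacksMV
import Groth.Agent.S16409

/-!
# Mayer–Vietoris squares of triangulated categories: the triangle, naturality, glueing
-/

set_option autoImplicit false

universe v u

open CategoryTheory CategoryTheory.Limits CategoryTheory.Pretriangulated
open W4c3perfectstacks W4c3perfectstacks.MVSq

namespace Groth.Agent.MVSqLib

section
variable {C : Type u} [Category.{v} C] [Preadditive C] [HasZeroObject C] [HasShift C ℤ]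
  [∀ n : ℤ, (shiftFunctor C n).Additive] [Pretriangulated C]
  {D : Type u} [Category.{v} D] [Preadditive D] [HasZeroObject D] [HasShift D ℤ]
  [∀ n : ℤ, (shiftFunctor D n).Additive] [Pretriangulated D]
  (L : C ⥤ D) [L.CommShift ℤ] [L.IsTriangulated]

theorem isZero_shift_of_killed {K : C} (hK : IsZero (L.obj K)) (n : ℤ) : IsZero (L.obj (K⟦n⟧)) :=
  IsZero.of_iso ((shiftFunctor D n).map_isZero hK) ((L.commShiftIso n).app K)

/-- A morphism inverted by `L` and inducing bijections on maps out of killed objects is invertible. -/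
theorem isIso_of_killed {A B : C} (f : A ⟶ B) (hLf : IsIso (L.map f))
    (h : ∀ K : C, IsZero (L.obj K) → Function.Bijective (fun g : K ⟶ A => g ≫ f)) : IsIso f := by
  obtain ⟨Q, v, w, hT⟩ := distinguished_cocone_triangle f
  refine (Triangle.isZero₃_iff_isIso₁ _ hT).mp ?_
  have hQ : IsZero (L.obj Q) :=
    (Triangle.isZero₃_iff_isIso₁ _ (L.map_distinguished _ hT)).mpr hLf
  show IsZero Q
  rw [IsZero.iff_id_eq_zero]
  have h1 : ∀ g : Q ⟶ Q, g = 0 := by
    intro g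
    have hw : g ≫ w = 0 := by
      obtain ⟨K, ⟨e⟩⟩ : ∃ K : C, Nonempty (K⟦(1 : ℤ)⟧ ≅ Q) :=
        ⟨Q⟦(-1 : ℤ)⟧, ⟨shiftNegShift Q (1 : ℤ)⟩⟩
      have hK : IsZero (L.obj K) := by
        have : IsZero ((L.obj K)⟦(1 : ℤ)⟧) :=
          IsZero.of_iso (hQ.of_iso (L.mapIso e)) ((L.commShiftIso (1 : ℤ)).app K).symm
        exact ((shiftFunctor D (-1 : ℤ)).map_isZero this).of_iso (shiftShiftNeg (L.obj K) (1 : ℤ)).symm
      obtain ⟨w', hw'⟩ := (shiftFunctor C (1 : ℤ)).map_surjective (e.hom ≫ g ≫ w)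
      have h0 : (fun g : K ⟶ A => g ≫ f) w' = (fun g : K ⟶ A => g ≫ f) 0 := by
        show w' ≫ f = 0 ≫ f
        apply (shiftFunctor C (1 : ℤ)).map_injective
        rw [zero_comp, Functor.map_zero, Functor.map_comp, hw']
        simp only [Category.assoc]
        rw [show w ≫ f⟦(1 : ℤ)⟧' = 0 from Pretriangulated.comp_distTriang_mor_zero₃₁ _ hT]
        simp
      rw [(h K hK).1 h0, Functor.map_zero] at hw'
      rw [← cancel_epi e.hom, comp_zero]
      exact hw'.symm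
    obtain ⟨g', hg'⟩ := Triangle.coyoneda_exact₃ _ hT g hw
    obtain ⟨g'', hg''⟩ := (h Q hQ).2 g'
    rw [hg', ← hg'']
    show (g'' ≫ f) ≫ v = 0
    rw [Category.assoc, show f ≫ v = 0 from Pretriangulated.comp_distTriang_mor_zero₁₂ _ hT, comp_zero]
  exact h1 _

/-- In a triangle `A ⟶ B₁ ⊞ B₂ ⟶ T` with `B₂ ⟶ T` invertible, `A ⟶ B₁` is invertible. -/
theorem isIso_of_biprod_triangle (A B₁ B₂ T : C) (a₁ : A ⟶ B₁) (a₂ : A ⟶ B₂) (g₁ : B₁ ⟶ T) (g₂ : B₂ ⟶ T)
    (d : T ⟶ A⟦(1 : ℤ)⟧) (hT : Triangle.mk (biprod.lift a₁ a₂) (biprod.desc g₁ g₂) d ∈ distTriang C)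
    [IsIso g₂] : IsIso a₁ := by
  have hd : d = 0 := by
    have h := Pretriangulated.comp_distTriang_mor_zero₂₃ _ hT
    change biprod.desc g₁ g₂ ≫ d = 0 at h
    have h2 := congrArg (biprod.inr ≫ ·) h
    simp only [biprod.inr_desc_assoc, comp_zero] at h2
    exact (cancel_epi g₂).mp (h2.trans comp_zero.symm)
  haveI : Mono (biprod.lift a₁ a₂) := (Triangle.mor₁ (Triangle.mk (biprod.lift a₁ a₂) (biprod.desc g₁ g₂) d)) |> fun _ =>
    Triangle.mono₁ _ hT hd
  obtain ⟨v', hv'⟩ := Triangle.coyoneda_exact₂ _ hT (biprod.lift (𝟙 B₁) (-(g₁ ≫ inv g₂)))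
    (show biprod.lift (𝟙 B₁) (-(g₁ ≫ inv g₂)) ≫ biprod.desc g₁ g₂ = 0 by simp)
  obtain ⟨v, hv⟩ : ∃ v : B₁ ⟶ A, biprod.lift (𝟙 B₁) (-(g₁ ≫ inv g₂)) = v ≫ biprod.lift a₁ a₂ := ⟨v', hv'⟩
  have hv1 : v ≫ a₁ = 𝟙 B₁ := by simpa using (congrArg (· ≫ biprod.fst) hv).symm
  have hv2 : v ≫ a₂ = -(g₁ ≫ inv g₂) := by simpa using (congrArg (· ≫ biprod.snd) hv).symm
  refine ⟨v, ?_, hv1⟩
  have h0' := Pretriangulated.comp_distTriang_mor_zero₁₂ _ hT
  have h0 : a₁ ≫ g₁ + a₂ ≫ g₂ = 0 := by rw [← biprod.lift_desc]; exact h0'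
  rw [← cancel_mono (biprod.lift a₁ a₂)]
  apply biprod.hom_ext
  · simp [hv1]
  · simp only [Category.assoc, biprod.lift_snd, Category.id_comp, hv2]
    rw [← cancel_mono g₂]
    simp only [Preadditive.comp_neg, Preadditive.neg_comp, Category.assoc, IsIso.inv_hom_id, Category.comp_id]
    exact neg_eq_of_add_eq_zero_right h0

/-- In a triangle `A ⟶ B₁ ⊞ B₂ ⟶ T` with `A ⟶ B₁` invertible, `B₂ ⟶ T` is invertible. -/
theorem isIso_snd_of_biprod_triangle (A B₁ B₂ T : C) (a₁ : A ⟶ B₁) (a₂ : A ⟶ B₂) (g₁ : B₁ ⟶ T) (g₂ : B₂ ⟶ T)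
    (d : T ⟶ A⟦(1 : ℤ)⟧) (hT : Triangle.mk (biprod.lift a₁ a₂) (biprod.desc g₁ g₂) d ∈ distTriang C)
    [IsIso a₁] : IsIso g₂ := by
  have hd : d = 0 := by
    have h : d ≫ (biprod.lift a₁ a₂)⟦(1 : ℤ)⟧' = 0 := Pretriangulated.comp_distTriang_mor_zero₃₁ _ hT
    have h2 := congrArg (fun z => z ≫ (biprod.fst : B₁ ⊞ B₂ ⟶ B₁)⟦(1 : ℤ)⟧') h
    simp only [Category.assoc, ← Functor.map_comp, biprod.lift_fst, zero_comp] at h2
    exact (cancel_mono (a₁⟦(1 : ℤ)⟧')).mp (h2.trans zero_comp.symm)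
  have h0' := Pretriangulated.comp_distTriang_mor_zero₁₂ _ hT
  have h0 : a₁ ≫ g₁ + a₂ ≫ g₂ = 0 := by rw [← biprod.lift_desc]; exact h0'
  obtain ⟨Z, v, w, hZ⟩ := distinguished_cocone_triangle g₂
  have hv : v = 0 := by
    have h1 : g₂ ≫ v = 0 := Pretriangulated.comp_distTriang_mor_zero₁₂ _ hZ
    have h2 : g₁ ≫ v = 0 := by
      rw [← cancel_epi a₁, comp_zero, ← Category.assoc, eq_neg_of_add_eq_zero_left h0, Preadditive.neg_comp,
        Category.assoc, h1, comp_zero, neg_zero]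
    haveI : Epi (biprod.desc g₁ g₂) := Triangle.epi₂ _ hT hd
    rw [← cancel_epi (biprod.desc g₁ g₂), comp_zero]
    apply biprod.hom_ext' <;> simp [h1, h2]
  have hw : w = 0 := by
    obtain ⟨x, hx⟩ := (shiftFunctor C (1 : ℤ)).map_surjective ((shiftNegShift Z (1 : ℤ)).hom ≫ w)
    have hxg : x ≫ g₂ = 0 := by
      apply (shiftFunctor C (1 : ℤ)).map_injective
      rw [Functor.map_comp, hx, Category.assoc,
        show w ≫ g₂⟦(1 : ℤ)⟧' = 0 from Pretriangulated.comp_distTriang_mor_zero₃₁ _ hZ, comp_zero, Functor.map_zero]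
    obtain ⟨y', hy'⟩ := Triangle.coyoneda_exact₂ _ hT (x ≫ biprod.inr)
      (show (x ≫ biprod.inr) ≫ biprod.desc g₁ g₂ = 0 by simp [hxg])
    obtain ⟨y, hy⟩ : ∃ y : (Z⟦(-1 : ℤ)⟧) ⟶ A, x ≫ biprod.inr = y ≫ biprod.lift a₁ a₂ := ⟨y', hy'⟩
    have hy1 : y = 0 := by
      have h3 : y ≫ a₁ = 0 := by simpa using (congrArg (· ≫ biprod.fst) hy).symm
      exact (cancel_mono a₁).mp (h3.trans zero_comp.symm)
    have hx0 : x = 0 := by simpa [hy1] using congrArg (· ≫ biprod.snd) hy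
    rw [← cancel_epi (shiftNegShift Z (1 : ℤ)).hom, comp_zero, ← hx, hx0, Functor.map_zero]
  refine (Triangle.isZero₃_iff_isIso₁ _ hZ).mp ?_
  rw [IsZero.iff_id_eq_zero]
  obtain ⟨g', hg'⟩ := Triangle.coyoneda_exact₃ _ hZ (𝟙 Z) (show 𝟙 Z ≫ w = 0 by simp [hw])
  exact hg'.trans (show g' ≫ v = 0 by rw [hv]; exact comp_zero)

/-- Image of a biproduct triangle. -/
theorem map_biprod_triangle {A B₁ B₂ T : C} (a : A ⟶ B₁ ⊞ B₂) (b : B₁ ⊞ B₂ ⟶ T) (d : T ⟶ A⟦(1 : ℤ)⟧)
    (hT : Triangle.mk a b d ∈ distTriang C) :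
    Triangle.mk (biprod.lift (L.map (a ≫ biprod.fst)) (L.map (a ≫ biprod.snd)))
      (biprod.desc (L.map (biprod.inl ≫ b)) (L.map (biprod.inr ≫ b)))
      (L.map d ≫ (L.commShiftIso (1 : ℤ)).hom.app A) ∈ distTriang D := by
  haveI : L.Additive := inferInstance
  haveI : PreservesBinaryBiproducts L := preservesBinaryBiproducts_of_preservesBiproducts L
  refine isomorphic_distinguished _ (L.map_distinguished _ hT) _ ?_
  refine Triangle.isoMk _ _ (Iso.refl _) (L.mapBiprod B₁ B₂).symm (Iso.refl _) ?_ ?_ ?_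
  · show biprod.lift _ _ ≫ (L.mapBiprod B₁ B₂).inv = 𝟙 _ ≫ L.map a
    rw [Category.id_comp, Iso.comp_inv_eq]
    apply biprod.hom_ext <;> simp [Functor.map_comp]
    · exact congrArg (fun z => L.map a ≫ z) (biprod.lift_fst _ _).symm
    · exact congrArg (fun z => L.map a ≫ z) (biprod.lift_snd _ _).symm
  · show biprod.desc _ _ ≫ 𝟙 _ = (L.mapBiprod B₁ B₂).inv ≫ L.map b
    rw [Category.comp_id]
    apply biprod.hom_ext' <;> simp [Functor.map_comp]
    · exact (biprod.inl_desc_assoc _ _ _).symm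
    · exact (biprod.inr_desc_assoc _ _ _).symm
  · show (L.map d ≫ _) ≫ (𝟙 (L.obj A))⟦(1 : ℤ)⟧' = 𝟙 _ ≫ L.map d ≫ _
    simp
    rfl

end

section
variable {S S' R R' : Type u} [Category.{v} S] [Category.{v} S'] [Category.{v} R] [Category.{v} R']
    [Preadditive S] [Preadditive S'] [Preadditive R] [Preadditive R']
    [HasZeroObject S] [HasZeroObject S'] [HasZeroObject R] [HasZeroObject R']
    [HasShift S ℤ] [HasShift S' ℤ] [HasShift R ℤ] [HasShift R' ℤ]
    [∀ n : ℤ, (shiftFunctor S n).Additive] [∀ n : ℤ, (shiftFunctor S' n).Additive]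
    [∀ n : ℤ, (shiftFunctor R n).Additive] [∀ n : ℤ, (shiftFunctor R' n).Additive]
    [Pretriangulated S] [Pretriangulated S'] [Pretriangulated R] [Pretriangulated R']
    [IsTriangulated S] [IsTriangulated S'] [IsTriangulated R] [IsTriangulated R']
    (q : W4c3perfectstacks.MVSq S S' R R')
    [q.jst.CommShift ℤ] [q.fst.CommShift ℤ] [q.jpst.CommShift ℤ] [q.gst.CommShift ℤ]
    [q.jst.IsTriangulated] [q.fst.IsTriangulated] [q.jpst.IsTriangulated] [q.gst.IsTriangulated]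
    (hq : q.IsMV)

include hq

omit [IsTriangulated S] [IsTriangulated S'] [IsTriangulated R] [IsTriangulated R'] in
theorem isZero_jst_fls {M : S'} (hM : IsZero (q.jpst.obj M)) : IsZero (q.jst.obj (q.fls.obj M)) := by
  have := hq.isIso_bcApp M
  haveI : q.gls.PreservesZeroMorphisms := by
    haveI : q.gls.IsRightAdjoint := q.adjG.isRightAdjoint
    exact Functor.preservesZeroMorphisms_of_isRightAdjoint _
  exact IsZero.of_iso (q.gls.map_isZero hM) (asIso (q.bcApp M))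

omit hq in
theorem isZero_jpst_fst {K : S} (hK : IsZero (q.jst.obj K)) : IsZero (q.jpst.obj (q.fst.obj K)) :=
  IsZero.of_iso (q.gst.map_isZero hK) (q.e.app K).symm

omit hq in
theorem hom_jls_eq_zero {K : S} (hK : IsZero (q.jst.obj K)) {P : R} (g : K ⟶ q.jls.obj P) : g = 0 :=
  (q.adjJ.homEquiv K P).symm.injective (hK.eq_of_src _ _)

omit hq in
theorem hom_jpls_eq_zero {M : S'} (hM : IsZero (q.jpst.obj M)) {P : R'} (g : M ⟶ q.jpls.obj P) : g = 0 :=
  (q.adjJp.homEquiv M P).symm.injective (hM.eq_of_src _ _)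

theorem hom_fst_jls_eq_zero {K : S} (hK : IsZero (q.jst.obj K)) {P : R} (g : q.fst.obj K ⟶ q.fst.obj (q.jls.obj P)) :
    g = 0 := by
  have := hq.isIso_bc2App P
  rw [← cancel_mono (q.bc2App P), zero_comp]
  exact hom_jpls_eq_zero q (isZero_jpst_fst q hK) _

theorem hom_fls_fst_jls_eq_zero {K : S} (hK : IsZero (q.jst.obj K)) {P : R}
    (g : K ⟶ q.fls.obj (q.fst.obj (q.jls.obj P))) : g = 0 :=
  (q.adjF.homEquiv K _).symm.injective
    ((hom_fst_jls_eq_zero q hq hK _).trans (hom_fst_jls_eq_zero q hq hK _).symm)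

theorem hom_fls_jpls_eq_zero {K : S} (hK : IsZero (q.jst.obj K)) {P : R'}
    (g : K ⟶ q.fls.obj (q.jpls.obj P)) : g = 0 :=
  (q.adjF.homEquiv K _).symm.injective
    ((hom_jpls_eq_zero q (isZero_jpst_fst q hK) _).trans (hom_jpls_eq_zero q (isZero_jpst_fst q hK) _).symm)

theorem fst_map_bijective {K : S} (hK : IsZero (q.jst.obj K)) (N : S) :
    Function.Bijective (fun g : K ⟶ N => q.fst.map g) := by
  have hc := hq.isIso_unitF K hK
  have h := Groth.Agent.S16409.result S S' R R' q hq (q.fst.obj K) (isZero_jpst_fst q hK) N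
  have e : (fun g : K ⟶ N => q.fst.map g) =
      (fun g : q.fst.obj (q.fls.obj (q.fst.obj K)) ⟶ q.fst.obj N => q.fst.map (q.adjF.unit.app K) ≫ g) ∘
        (fun g => q.fst.map g) ∘ (fun g : K ⟶ N => inv (q.adjF.unit.app K) ≫ g) := by
    funext g
    simp [← Functor.map_comp]
  rw [e]
  refine Function.Bijective.comp ?_ (h.comp ?_)
  · exact ⟨fun a b hab => (cancel_epi _).mp hab, fun b => ⟨inv (q.fst.map (q.adjF.unit.app K)) ≫ b, by simp⟩⟩
  · exact ⟨fun a b hab => (cancel_epi _).mp hab, fun b => ⟨q.adjF.unit.app K ≫ b, by simp⟩⟩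

theorem comp_unitF_bijective {K : S} (hK : IsZero (q.jst.obj K)) (N : S) :
    Function.Bijective (fun g : K ⟶ N => g ≫ q.adjF.unit.app N) := by
  have e : (fun g : K ⟶ N => g ≫ q.adjF.unit.app N) =
      (q.adjF.homEquiv K (q.fst.obj N)) ∘ (fun g : K ⟶ N => q.fst.map g) := by
    funext g
    simp [Adjunction.homEquiv_unit]
  rw [e]
  exact (Equiv.bijective _).comp (fst_map_bijective q hq hK N)

theorem isIso_jst_fls_map {M₁ M₂ : S'} (f : M₁ ⟶ M₂) (hf : IsIso (q.jpst.map f)) :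
    IsIso (q.jst.map (q.fls.map f)) := by
  have := hq.isIso_bcApp M₁
  have := hq.isIso_bcApp M₂
  have hnat : q.jst.map (q.fls.map f) ≫ q.bcApp M₂ = q.bcApp M₁ ≫ q.gls.map (q.jpst.map f) := by
    simp only [MVSq.bcApp]
    have h1 := q.adjG.unit.naturality (q.jst.map (q.fls.map f))
    have h2 := q.e.hom.naturality (q.fls.map f)
    have h3 := q.adjF.counit.naturality f
    simp only [Functor.id_map, Functor.comp_map] at h1 h2 h3
    rw [← Category.assoc, h1]
    simp only [Category.assoc, ← Functor.map_comp]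
    congr 2
    rw [reassoc_of% h2, ← Functor.map_comp, h3]
  have : IsIso (q.jst.map (q.fls.map f) ≫ q.bcApp M₂) := by rw [hnat]; infer_instance
  exact IsIso.of_isIso_comp_right _ (q.bcApp M₂)

theorem isIso_jpst_fst_map {A B : S} (f : A ⟶ B) (hf : IsIso (q.jst.map f)) : IsIso (q.jpst.map (q.fst.map f)) :=
  (NatIso.isIso_map_iff q.e f).mp (show IsIso (q.gst.map (q.jst.map f)) by infer_instance)

omit hq in
theorem jst_map_unit_isIso (hJ : IsIso q.adjJ.counit) (N : S) : IsIso (q.jst.map (q.adjJ.unit.app N)) := by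
  haveI := hJ
  exact IsIso.of_isIso_fac_right (hh := IsIso.id _) (q.adjJ.left_triangle_components N)

omit hq in
theorem jpst_map_unit_isIso (hJ : IsIso q.adjJp.counit) (N : S') : IsIso (q.jpst.map (q.adjJp.unit.app N)) := by
  haveI := hJ
  exact IsIso.of_isIso_fac_right (hh := IsIso.id _) (q.adjJp.left_triangle_components N)

/-- The first map of the Mayer–Vietoris triangle. -/
noncomputable def mvA (N : S) : N ⟶ q.jls.obj (q.jst.obj N) ⊞ q.fls.obj (q.fst.obj N) :=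
  biprod.lift (q.adjJ.unit.app N) (q.adjF.unit.app N)

/-- The second map of the Mayer–Vietoris triangle. -/
noncomputable def mvB (N : S) :
    q.jls.obj (q.jst.obj N) ⊞ q.fls.obj (q.fst.obj N) ⟶ q.fls.obj (q.fst.obj (q.jls.obj (q.jst.obj N))) :=
  biprod.desc (q.adjF.unit.app (q.jls.obj (q.jst.obj N))) (-(q.fls.map (q.fst.map (q.adjJ.unit.app N))))

omit hq in
theorem mvA_mvB (N : S) : mvA q N ≫ mvB q N = 0 := by
  have h := q.adjF.unit.naturality (q.adjJ.unit.app N)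
  simp only [Functor.id_map, Functor.comp_map] at h
  simp only [mvA, mvB, biprod.lift_desc, Preadditive.comp_neg]
  exact add_neg_eq_zero.mpr h

theorem isIso_jst_mvB_snd (N : S) :
    IsIso (q.jst.map (-(q.fls.map (q.fst.map (q.adjJ.unit.app N))))) := by
  haveI := isIso_jst_fls_map q hq (q.fst.map (q.adjJ.unit.app N))
    (isIso_jpst_fst_map q hq _ (jst_map_unit_isIso q hq.isIso_counitJ N))
  rw [Functor.map_neg]
  exact ⟨-inv (q.jst.map (q.fls.map (q.fst.map (q.adjJ.unit.app N)))), by simp, by simp⟩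

theorem comp_mvA_bijective {K : S} (hK : IsZero (q.jst.obj K)) (N : S) :
    Function.Bijective (fun g : K ⟶ N => g ≫ mvA q N) := by
  constructor
  · intro a b hab
    apply (comp_unitF_bijective q hq hK N).1
    simpa [mvA] using congrArg (· ≫ biprod.snd) hab
  · intro b
    obtain ⟨g, hg⟩ := (comp_unitF_bijective q hq hK N).2 (b ≫ biprod.snd)
    refine ⟨g, biprod.hom_ext _ _ ((hom_jls_eq_zero q hK _).trans (hom_jls_eq_zero q hK _).symm) ?_⟩
    simpa [mvA] using hg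

/-- Existence of the Mayer–Vietoris triangle. -/
theorem exists_mv (N : S) :
    ∃ d : q.fls.obj (q.fst.obj (q.jls.obj (q.jst.obj N))) ⟶ N⟦(1 : ℤ)⟧,
      Triangle.mk (mvA q N) (mvB q N) d ∈ distTriang S := by
  obtain ⟨Q, b, d, hT⟩ := distinguished_cocone_triangle (mvA q N)
  obtain ⟨c, hc⟩ : ∃ c : Q ⟶ q.fls.obj (q.fst.obj (q.jls.obj (q.jst.obj N))), mvB q N = b ≫ c :=
    Triangle.yoneda_exact₂ _ hT (mvB q N) (mvA_mvB q N)
  have hK : ∀ K : S, IsZero (q.jst.obj K) → ∀ g : K ⟶ Q, g = 0 := by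
    intro K hK g
    have hgd : g ≫ d = 0 := by
      let K' := K⟦(-1 : ℤ)⟧
      let e : K'⟦(1 : ℤ)⟧ ≅ K := shiftNegShift K (1 : ℤ)
      obtain ⟨w', hw'⟩ := (shiftFunctor S (1 : ℤ)).map_surjective (e.hom ≫ g ≫ d)
      have h0 : w' ≫ mvA q N = 0 ≫ mvA q N := by
        apply (shiftFunctor S (1 : ℤ)).map_injective
        rw [zero_comp, Functor.map_zero, Functor.map_comp, hw']
        simp only [Category.assoc]
        rw [show d ≫ (mvA q N)⟦(1 : ℤ)⟧' = 0 from Pretriangulated.comp_distTriang_mor_zero₃₁ _ hT]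
        simp
      rw [(comp_mvA_bijective q hq (isZero_shift_of_killed q.jst hK (-1)) N).1 h0, Functor.map_zero] at hw'
      rw [← cancel_epi e.hom, comp_zero]
      exact hw'.symm
    obtain ⟨g', hg'⟩ := Triangle.coyoneda_exact₃ _ hT g hgd
    obtain ⟨g'', hg''⟩ := (comp_mvA_bijective q hq hK N).2 g'
    rw [hg', ← hg'']
    show (g'' ≫ mvA q N) ≫ b = 0
    rw [Category.assoc, show mvA q N ≫ b = 0 from Pretriangulated.comp_distTriang_mor_zero₁₂ _ hT, comp_zero]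
  have hjc : IsIso (q.jst.map c) := by
    haveI := isIso_jst_mvB_snd q hq N
    haveI hm : IsIso (q.jst.map (biprod.inr ≫ b) ≫ q.jst.map c) := by
      rw [← Functor.map_comp, Category.assoc, ← hc, mvB, biprod.inr_desc]; infer_instance
    haveI : IsIso (q.jst.map (biprod.inr ≫ b)) := by
      haveI : IsIso (q.jst.map (mvA q N ≫ biprod.fst)) := by
        rw [mvA, biprod.lift_fst]; exact jst_map_unit_isIso q hq.isIso_counitJ N
      exact isIso_snd_of_biprod_triangle _ _ _ _ _ _ _ _ _ (map_biprod_triangle q.jst (mvA q N) b d hT)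
    exact @IsIso.of_isIso_comp_left _ _ _ _ _ (q.jst.map (biprod.inr ≫ b)) (q.jst.map c) _ hm
  haveI : IsIso c := isIso_of_killed q.jst c hjc fun K hK0 =>
    ⟨fun a b _ => (hK K hK0 a).trans (hK K hK0 b).symm,
      fun y => ⟨0, (hom_fls_fst_jls_eq_zero q hq hK0 _).trans (hom_fls_fst_jls_eq_zero q hq hK0 _).symm⟩⟩
  refine ⟨inv c ≫ d, isomorphic_distinguished _ hT _ ?_⟩
  refine Triangle.isoMk _ _ (Iso.refl _) (Iso.refl _) (asIso c).symm ?_ ?_ ?_
  · show mvA q N ≫ 𝟙 _ = 𝟙 _ ≫ mvA q N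
    simp
  · show mvB q N ≫ inv c = 𝟙 _ ≫ b
    rw [hc, Category.assoc, IsIso.hom_inv_id]; simp
  · show (inv c ≫ d) ≫ (𝟙 N)⟦(1 : ℤ)⟧' = inv c ≫ d
    simp

/-- Naturality of the connecting map. -/
theorem mv_natural {N₁ N₂ : S} (φ : N₁ ⟶ N₂)
    (d₁ : q.fls.obj (q.fst.obj (q.jls.obj (q.jst.obj N₁))) ⟶ N₁⟦(1 : ℤ)⟧)
    (d₂ : q.fls.obj (q.fst.obj (q.jls.obj (q.jst.obj N₂))) ⟶ N₂⟦(1 : ℤ)⟧)
    (h₁ : Triangle.mk (mvA q N₁) (mvB q N₁) d₁ ∈ distTriang S)
    (h₂ : Triangle.mk (mvA q N₂) (mvB q N₂) d₂ ∈ distTriang S) :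
    d₁ ≫ φ⟦(1 : ℤ)⟧' = q.fls.map (q.fst.map (q.jls.map (q.jst.map φ))) ≫ d₂ := by
  let m : q.jls.obj (q.jst.obj N₁) ⊞ q.fls.obj (q.fst.obj N₁) ⟶ q.jls.obj (q.jst.obj N₂) ⊞ q.fls.obj (q.fst.obj N₂) :=
    biprod.map (q.jls.map (q.jst.map φ)) (q.fls.map (q.fst.map φ))
  let T := q.fls.map (q.fst.map (q.jls.map (q.jst.map φ)))
  have hJ := q.adjJ.unit.naturality φ
  have hF := q.adjF.unit.naturality φ
  have hF2 := q.adjF.unit.naturality (q.jls.map (q.jst.map φ))
  simp only [Functor.id_map, Functor.comp_map] at hJ hF hF2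
  have c1 : mvA q N₁ ≫ m = φ ≫ mvA q N₂ := by
    apply biprod.hom_ext
    · simp only [mvA, m, Category.assoc, biprod.map_fst, biprod.lift_fst, biprod.lift_fst_assoc]
      exact hJ.symm
    · simp only [mvA, m, Category.assoc, biprod.map_snd, biprod.lift_snd, biprod.lift_snd_assoc]
      exact hF.symm
  have c2 : mvB q N₁ ≫ T = m ≫ mvB q N₂ := by
    apply biprod.hom_ext'
    · simp only [mvB, m, T, biprod.inl_desc_assoc, biprod.inl_map_assoc, biprod.inl_desc]
      exact hF2.symm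
    · simp only [mvB, m, T, biprod.inr_desc_assoc, biprod.inr_map_assoc, biprod.inr_desc, Preadditive.neg_comp,
        Preadditive.comp_neg, ← Functor.map_comp]
      rw [← hJ]
  obtain ⟨t, ht1, ht2⟩ : ∃ t : q.fls.obj (q.fst.obj (q.jls.obj (q.jst.obj N₁))) ⟶
      q.fls.obj (q.fst.obj (q.jls.obj (q.jst.obj N₂))),
      mvB q N₁ ≫ t = m ≫ mvB q N₂ ∧ d₁ ≫ φ⟦(1 : ℤ)⟧' = t ≫ d₂ :=
    complete_distinguished_triangle_morphism _ _ h₁ h₂ φ m c1
  rw [ht2]
  congr 1
  rw [← sub_eq_zero]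
  have hz : mvB q N₁ ≫ (t - T) = 0 := by rw [Preadditive.comp_sub, ht1, c2, sub_self]
  have hjz : q.jst.map (t - T) = 0 := by
    haveI := isIso_jst_mvB_snd q hq N₁
    have h3 : q.jst.map (-(q.fls.map (q.fst.map (q.adjJ.unit.app N₁)))) ≫ q.jst.map (t - T) = 0 := by
      rw [← Functor.map_comp]
      have := congrArg (biprod.inr ≫ ·) hz
      simp only [mvB, biprod.inr_desc_assoc, comp_zero] at this
      rw [this, Functor.map_zero]
    exact (cancel_epi _).mp (h3.trans comp_zero.symm)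
  set x := t - T
  have hη : x ≫ q.adjJ.unit.app _ = 0 := by
    have h4 := q.adjJ.unit.naturality x
    simp only [Functor.id_map, Functor.comp_map] at h4
    haveI : q.jls.PreservesZeroMorphisms := by
      haveI : q.jls.IsRightAdjoint := q.adjJ.isRightAdjoint
      exact Functor.preservesZeroMorphisms_of_isRightAdjoint _
    rw [h4, hjz, Functor.map_zero, comp_zero]
  obtain ⟨Cc, v, w, hT⟩ := distinguished_cocone_triangle (q.adjJ.unit.app (q.fls.obj (q.fst.obj (q.jls.obj (q.jst.obj N₂)))))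
  obtain ⟨x', hx'⟩ := Triangle.coyoneda_exact₂ _ (inv_rot_of_distTriang _ hT) x hη
  have hX : IsZero (q.jst.obj (Triangle.mk (q.adjJ.unit.app _) v w).invRotate.obj₁) :=
    (Triangle.isZero₁_iff_isIso₂ _ (q.jst.map_distinguished _ (inv_rot_of_distTriang _ hT))).mpr
      (jst_map_unit_isIso q hq.isIso_counitJ _)
  exact hx'.trans ((congrArg (fun z => x' ≫ z) (hom_fls_fst_jls_eq_zero q hq hX _)).trans comp_zero)

/-- Glueing. -/
theorem glue_isIso (NU : R) (N' : S') (δ : q.jpst.obj N' ≅ q.gst.obj NU) (N : S)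
    (a : N ⟶ q.jls.obj NU ⊞ q.fls.obj N')
    (d : q.fls.obj (q.jpls.obj (q.gst.obj NU)) ⟶ N⟦(1 : ℤ)⟧)
    (hT : Triangle.mk a
      (biprod.desc (q.adjF.unit.app (q.jls.obj NU) ≫ q.fls.map (q.bc2App NU))
        (-(q.fls.map (q.adjJp.unit.app N' ≫ q.jpls.map δ.hom)))) d ∈ distTriang S) :
    IsIso ((q.adjJ.homEquiv N NU).symm (a ≫ biprod.fst)) ∧
      IsIso ((q.adjF.homEquiv N N').symm (a ≫ biprod.snd)) := by
  haveI hJc := hq.isIso_counitJ
  haveI := hq.isIso_bc2App NU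
  set g₁ := q.adjF.unit.app (q.jls.obj NU) ≫ q.fls.map (q.bc2App NU)
  set ψ := q.adjJp.unit.app N' ≫ q.jpls.map δ.hom
  set g₂ := -(q.fls.map ψ)
  haveI hψ : IsIso (q.jpst.map ψ) := by
    haveI := jpst_map_unit_isIso q hq.isIso_counitJp N'
    simp only [ψ, Functor.map_comp]
    infer_instance
  haveI hg₂ : IsIso (q.jst.map g₂) := by
    haveI := isIso_jst_fls_map q hq ψ hψ
    simp only [g₂, Functor.map_neg]
    exact ⟨-inv (q.jst.map (q.fls.map ψ)), by simp, by simp⟩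
  have ha : a = biprod.lift (a ≫ biprod.fst) (a ≫ biprod.snd) := by ext <;> simp
  haveI hj1 : IsIso (q.jst.map (a ≫ biprod.fst)) := by
    have h := map_biprod_triangle q.jst a (biprod.desc g₁ g₂) d hT
    simp only [biprod.inl_desc, biprod.inr_desc] at h
    exact isIso_of_biprod_triangle _ _ _ _ _ _ _ _ _ h
  have hJ : IsIso ((q.adjJ.homEquiv N NU).symm (a ≫ biprod.fst)) := by
    rw [Adjunction.homEquiv_counit]; infer_instance
  refine ⟨hJ, ?_⟩
  set α := (q.adjF.homEquiv N N').symm (a ≫ biprod.snd) with hα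
  have h0 : (a ≫ biprod.fst) ≫ g₁ + (a ≫ biprod.snd) ≫ g₂ = 0 := by
    rw [← biprod.lift_desc, ← ha]
    exact Pretriangulated.comp_distTriang_mor_zero₁₂ _ hT
  have hsq : q.fst.map (a ≫ biprod.fst) ≫ q.bc2App NU = α ≫ ψ := by
    apply (q.adjF.homEquiv N _).injective
    rw [Adjunction.homEquiv_naturality_right, Adjunction.homEquiv_naturality_right, hα, Equiv.apply_symm_apply,
      Adjunction.homEquiv_unit]
    have hn := q.adjF.unit.naturality (a ≫ biprod.fst)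
    simp only [Functor.id_map, Functor.comp_map] at hn
    rw [← hn, Category.assoc]
    simp only [g₂, Preadditive.comp_neg] at h0
    exact eq_of_sub_eq_zero ((sub_eq_add_neg _ _).trans h0)
  have hjp : IsIso (q.jpst.map α) := by
    haveI := isIso_jpst_fst_map q hq (a ≫ biprod.fst) hj1
    have h1 : q.jpst.map α ≫ q.jpst.map ψ = q.jpst.map (q.fst.map (a ≫ biprod.fst)) ≫ q.jpst.map (q.bc2App NU) := by
      rw [← Functor.map_comp, ← Functor.map_comp, hsq]
    have : IsIso (q.jpst.map α ≫ q.jpst.map ψ) := by rw [h1]; infer_instance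
    exact IsIso.of_isIso_comp_right _ (q.jpst.map ψ)
  refine isIso_of_killed q.jpst α hjp fun M hM => ?_
  haveI := hq.isIso_counitF M hM
  have hK := isZero_jst_fls q hq hM
  have hbij : Function.Bijective (fun g : q.fls.obj M ⟶ N => g ≫ a) := by
    constructor
    · intro x y hxy
      rw [← sub_eq_zero]
      have h2 : (x - y) ≫ a = 0 := by rw [Preadditive.sub_comp, sub_eq_zero]; exact hxy
      obtain ⟨z, hz⟩ : ∃ z : q.fls.obj M ⟶ (q.fls.obj (q.jpls.obj (q.gst.obj NU)))⟦(-1 : ℤ)⟧,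
          x - y = z ≫ (Triangle.mk a (biprod.desc g₁ g₂) d).invRotate.mor₁ :=
        Triangle.coyoneda_exact₂ _ (inv_rot_of_distTriang _ hT) (x - y) h2
      have hz0 : z = 0 := by
        apply (shiftFunctor S (1 : ℤ)).map_injective
        rw [Functor.map_zero, ← cancel_mono (shiftNegShift (q.fls.obj (q.jpls.obj (q.gst.obj NU))) (1 : ℤ)).hom, zero_comp]
        exact hom_fls_jpls_eq_zero q hq (isZero_shift_of_killed q.jst hK 1) _
      rw [hz, hz0, zero_comp]; rfl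
    · intro y
      obtain ⟨g, hg⟩ := Triangle.coyoneda_exact₂ _ hT y (hom_fls_jpls_eq_zero q hq hK _)
      exact ⟨g, hg.symm⟩
  have e : (fun g : M ⟶ q.fst.obj N => g ≫ α) =
      (fun g : q.fst.obj (q.fls.obj M) ⟶ N' => inv (q.adjF.counit.app M) ≫ g) ∘ (q.adjF.homEquiv (q.fls.obj M) N').symm ∘
        (fun g : q.fls.obj M ⟶ q.jls.obj NU ⊞ q.fls.obj N' => g ≫ biprod.snd) ∘
          (fun g : q.fls.obj M ⟶ N => g ≫ a) ∘
          (Equiv.ofBijective _ (fst_map_bijective q hq hK N)).symm ∘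
            (fun g : M ⟶ q.fst.obj N => q.adjF.counit.app M ≫ g) := by
    funext g
    obtain ⟨g', hg'⟩ := (fst_map_bijective q hq hK N).2 (q.adjF.counit.app M ≫ g)
    have hs : (Equiv.ofBijective _ (fst_map_bijective q hq hK N)).symm (q.adjF.counit.app M ≫ g) = g' := by
      rw [Equiv.symm_apply_eq]; exact hg'.symm
    simp only [Function.comp_apply, hs]
    rw [Category.assoc, Adjunction.homEquiv_naturality_left_symm, ← hα]
    have hg'' : q.fst.map g' = q.adjF.counit.app M ≫ g := hg'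
    rw [hg'', Category.assoc, IsIso.inv_hom_id_assoc]
  rw [e]
  refine Function.Bijective.comp ?_ ((Equiv.bijective _).comp (Function.Bijective.comp ?_ (hbij.comp ((Equiv.bijective _).comp ?_))))
  · exact ⟨fun x y hxy => (cancel_epi _).mp hxy, fun y => ⟨q.adjF.counit.app M ≫ y, by simp⟩⟩
  · exact ⟨fun x y hxy => biprod.hom_ext _ _ ((hom_jls_eq_zero q hK _).trans (hom_jls_eq_zero q hK _).symm) hxy,
      fun y => ⟨y ≫ biprod.inr, by simp⟩⟩
  · exact ⟨fun x y hxy => (cancel_epi _).mp hxy, fun y => ⟨inv (q.adjF.counit.app M) ≫ y, by simp⟩⟩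

end

end Groth.Agent.MVSqLib
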