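import Groth.Agent.MVSqLib.Basic
import Groth.Agent.BrownRep.Compact

/-!
# Compactness is local for Mayer–Vietoris squares
-/

set_option autoImplicit false

universe v u

open CategoryTheory CategoryTheory.Limits CategoryTheory.Pretriangulated
open W4c3perfectstacks W4c3perfectstacks.MVSq
open Groth.Agent.BrownRep

namespace Groth.Agent.MVSqLib

section
variable {C : Type u} [Category.{v} C] [Preadditive C] [HasCoproducts.{v} C]
  {D : Type u} [Category.{v} D] [Preadditive D] [HasCoproducts.{v} D]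
  (L : C ⥤ D) [L.Additive] [L.IsLeftAdjoint]

/-- A map from a compact object into the image of a coproduct is killed by almost all projections. -/
theorem exists_killed {A : D} (hA : CohDer.IsCompactObject A) {κ : Type v} [DecidableEq κ] (X : κ → C)
    (β : A ⟶ L.obj (∐ X)) :
    ∃ s : Finset κ, ∀ t, s ⊆ t → β ≫ L.map (𝟙 (∐ X) - projFin X t) = 0 := by
  haveI : PreservesColimit (Discrete.functor X) L := inferInstance
  let e := PreservesCoproduct.iso L X
  have h := finHom_induction (p := fun γ => ∃ s : Finset κ, ∀ t, s ⊆ t →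
      γ ≫ e.inv ≫ L.map (𝟙 (∐ X) - projFin X t) = 0)
    ((isCompactObject_iff A).1 hA κ (fun k => L.obj (X k)) (β ≫ e.hom)) ⟨∅, fun t _ => zero_comp⟩
    (fun k x => ⟨{k}, fun t ht => ?_⟩) ?_
  · obtain ⟨s, hs⟩ := h
    exact ⟨s, fun t ht => by simpa using hs t ht⟩
  · have hk : Sigma.ι X k ≫ (𝟙 (∐ X) - projFin X t) = 0 := by
      rw [Preadditive.comp_sub, Category.comp_id, sub_eq_zero, projFin, Preadditive.comp_sum,
        Finset.sum_eq_single k]
      · simp
      · exact fun j _ hj => by rw [← Category.assoc, Sigma.ι_π_of_ne _ hj.symm, zero_comp]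
      · exact fun h => absurd (ht (Finset.mem_singleton_self k)) h
    rw [Category.assoc, show Sigma.ι (fun k => L.obj (X k)) k ≫ e.inv ≫ L.map (𝟙 (∐ X) - projFin X t) =
      L.map (Sigma.ι X k ≫ (𝟙 (∐ X) - projFin X t)) by
        rw [Functor.map_comp, ← Category.assoc]
        congr 1
        simp [e, PreservesCoproduct.inv_hom],
      hk, Functor.map_zero, comp_zero]
  · rintro a b ⟨s, hs⟩ ⟨s', hs'⟩
    exact ⟨s ∪ s', fun t ht => by
      rw [Preadditive.add_comp, hs t (Finset.union_subset_left ht), hs' t (Finset.union_subset_right ht), add_zero]⟩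

end

section
variable {S S' R R' : Type u} [Category.{v} S] [Category.{v} S'] [Category.{v} R] [Category.{v} R']
    [Preadditive S] [Preadditive S'] [Preadditive R] [Preadditive R']
    [HasZeroObject S] [HasZeroObject S'] [HasZeroObject R] [HasZeroObject R']
    [HasShift S ℤ] [HasShift S' ℤ] [HasShift R ℤ] [HasShift R' ℤ]
    [∀ n : ℤ, (shiftFunctor S n).Additive] [∀ n : ℤ, (shiftFunctor S' n).Additive]
    [∀ n : ℤ, (shiftFunctor R n).Additive] [∀ n : ℤ, (shiftFunctor R' n).Additive]
    [Pretriangulated S] [Pretriangulated S'] [Pretriangulated R] [Pretriangulated R']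
    [IsTriangulated S] [IsTriangulated S'] [IsTriangulated R] [IsTriangulated R']
    (q : W4c3perfectstacks.MVSq S S' R R')
    [q.jst.CommShift ℤ] [q.fst.CommShift ℤ] [q.jpst.CommShift ℤ] [q.gst.CommShift ℤ]
    [q.jst.IsTriangulated] [q.fst.IsTriangulated] [q.jpst.IsTriangulated] [q.gst.IsTriangulated]
    (hq : q.IsMV) [HasCoproducts.{v} S] [HasCoproducts.{v} S'] [HasCoproducts.{v} R] [HasCoproducts.{v} R']

/-- A map into `f_* f^* j_* P` as a map on `U'`. -/
noncomputable def overlap {N : S} {P : R} (y : N ⟶ q.fls.obj (q.fst.obj (q.jls.obj P))) :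
    q.gst.obj (q.jst.obj N) ⟶ q.gst.obj P :=
  q.e.hom.app N ≫ (q.adjJp.homEquiv _ _).symm ((q.adjF.homEquiv _ _).symm y ≫ q.bc2App P)

theorem bc2App_naturality {P P' : R} (g : P ⟶ P') :
    q.fst.map (q.jls.map g) ≫ q.bc2App P' = q.bc2App P ≫ q.jpls.map (q.gst.map g) := by
  simp only [MVSq.bc2App]
  have h1 := q.adjJp.unit.naturality (q.fst.map (q.jls.map g))
  have h2 := q.e.inv.naturality (q.jls.map g)
  have h3 := q.adjJ.counit.naturality g
  simp only [Functor.id_map, Functor.comp_map] at h1 h2 h3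
  rw [← Category.assoc, h1]
  simp only [Category.assoc, ← Functor.map_comp]
  congr 2
  rw [reassoc_of% h2, ← Functor.map_comp, h3]

theorem overlap_comp {N : S} {P P' : R} (y : N ⟶ q.fls.obj (q.fst.obj (q.jls.obj P))) (g : P ⟶ P') :
    overlap q (y ≫ q.fls.map (q.fst.map (q.jls.map g))) = overlap q y ≫ q.gst.map g := by
  simp only [overlap]
  rw [Adjunction.homEquiv_naturality_right_symm, Category.assoc, bc2App_naturality, ← Category.assoc,
    Adjunction.homEquiv_naturality_right_symm, Category.assoc]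

include hq in
theorem overlap_injective {N : S} {P : R} :
    Function.Injective (overlap q : (N ⟶ q.fls.obj (q.fst.obj (q.jls.obj P))) → _) := by
  intro a b hab
  haveI := hq.isIso_bc2App P
  exact (q.adjF.homEquiv _ _).symm.injective ((cancel_mono (q.bc2App P)).mp
    ((q.adjJp.homEquiv _ _).symm.injective ((cancel_epi (q.e.hom.app N)).mp hab)))

include hq in
/-- Compactness is local. -/
theorem isCompactObject_of_local (N : S) (hU : CohDer.IsCompactObject (q.jst.obj N))
    (hX' : CohDer.IsCompactObject (q.fst.obj N)) (hU' : CohDer.IsCompactObject (q.gst.obj (q.jst.obj N))) :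
    CohDer.IsCompactObject N := by
  classical
  haveI : q.jst.IsLeftAdjoint := q.adjJ.isLeftAdjoint
  haveI : q.fst.IsLeftAdjoint := q.adjF.isLeftAdjoint
  haveI : q.gst.IsLeftAdjoint := q.adjG.isLeftAdjoint
  haveI : (q.jst ⋙ q.gst).IsLeftAdjoint := (q.adjJ.comp q.adjG).isLeftAdjoint
  refine (isCompactObject_iff N).2 fun κ X α => ?_
  obtain ⟨d, hd⟩ := exists_mv q hq (∐ X)
  obtain ⟨s₁, hs₁⟩ := exists_killed q.jst hU X (q.jst.map α)
  obtain ⟨s₂, hs₂⟩ := exists_killed q.fst hX' X (q.fst.map α)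
  set P := 𝟙 (∐ X) - projFin X (s₁ ∪ s₂)
  have ha : (α ≫ P) ≫ mvA q (∐ X) = 0 := by
    apply biprod.hom_ext
    · simp only [mvA, Category.assoc, biprod.lift_fst, zero_comp]
      have h := q.adjJ.unit.naturality (α ≫ P)
      simp only [Functor.id_map, Functor.comp_map] at h
      haveI : q.jls.PreservesZeroMorphisms := by
        haveI : q.jls.IsRightAdjoint := q.adjJ.isRightAdjoint
        exact Functor.preservesZeroMorphisms_of_isRightAdjoint _
      rw [← Category.assoc, h, Functor.map_comp, hs₁ _ Finset.subset_union_left, Functor.map_zero, comp_zero]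
    · simp only [mvA, Category.assoc, biprod.lift_snd, zero_comp]
      have h := q.adjF.unit.naturality (α ≫ P)
      simp only [Functor.id_map, Functor.comp_map] at h
      haveI : q.fls.PreservesZeroMorphisms := by
        haveI : q.fls.IsRightAdjoint := q.adjF.isRightAdjoint
        exact Functor.preservesZeroMorphisms_of_isRightAdjoint _
      rw [← Category.assoc, h, Functor.map_comp, hs₂ _ Finset.subset_union_right, Functor.map_zero, comp_zero]
  obtain ⟨y, hy⟩ : ∃ y : N⟦(1 : ℤ)⟧ ⟶ q.fls.obj (q.fst.obj (q.jls.obj (q.jst.obj (∐ X)))),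
      (α ≫ P)⟦(1 : ℤ)⟧' = y ≫ d := by
    refine Triangle.coyoneda_exact₁ _ hd ((α ≫ P)⟦(1 : ℤ)⟧') ?_
    show (α ≫ P)⟦(1 : ℤ)⟧' ≫ (mvA q (∐ X))⟦(1 : ℤ)⟧' = 0
    rw [← Functor.map_comp, ha, Functor.map_zero]
  have hU'1 : CohDer.IsCompactObject (q.gst.obj (q.jst.obj (N⟦(1 : ℤ)⟧))) :=
    isCompactObject_of_retract
      (Retract.ofIso (q.gst.mapIso ((q.jst.commShiftIso (1 : ℤ)).app N) ≪≫ (q.gst.commShiftIso (1 : ℤ)).app _))
      (isCompactObject_shift hU' 1)
  obtain ⟨s₃, hs₃⟩ := exists_killed (q.jst ⋙ q.gst) hU'1 X (overlap q y)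
  set P' := 𝟙 (∐ X) - projFin X s₃
  have hzero : α ≫ P ≫ P' = 0 := by
    apply (shiftFunctor S (1 : ℤ)).map_injective
    rw [Functor.map_zero, ← Category.assoc, Functor.map_comp, hy, Category.assoc,
      mv_natural q hq P' d d hd hd, ← Category.assoc]
    have hy0 : y ≫ q.fls.map (q.fst.map (q.jls.map (q.jst.map P'))) = 0 := by
      apply overlap_injective q hq
      rw [overlap_comp, show q.gst.map (q.jst.map P') = (q.jst ⋙ q.gst).map P' from rfl, hs₃ s₃ subset_rfl]
      simp only [overlap, Adjunction.homEquiv_counit]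
      simp
    rw [hy0, zero_comp]
  have hsplit : α = α ≫ projFin X (s₁ ∪ s₂) + (α ≫ P) ≫ projFin X s₃ := by
    rw [show (α ≫ P) ≫ projFin X s₃ = α ≫ P - α ≫ P ≫ P' by
      simp only [P', Preadditive.comp_sub, Category.comp_id, Category.assoc, sub_sub_cancel]]
    rw [hzero, sub_zero]
    simp [P, Preadditive.comp_sub]
  rw [hsplit]
  exact add_mem (comp_projFin_mem _ _) (comp_projFin_mem _ _)

end

end Groth.Agent.MVSqLib
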